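import Groth.Agent.S4773
import Groth.Agent.FBase64.Components

/-! Geometric connectedness is detected by finite separable extensions, for any scheme. -/

set_option autoImplicit false
set_option backward.isDefEq.respectTransparency false
set_option backward.defeqAttrib.useBackward true
universe u

open CategoryTheory CategoryTheory.Limits AlgebraicGeometry Opposite
open Lim8 Groth.Agent.LimTop61

namespace Groth.Agent.GeoConn24

/-- the projection to the base change at an intermediate stage -/
noncomputable def toSub {k : Type u} [Field k] (E : Type u) [Field E] [Algebra k E] {X : Scheme.{u}}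
    (f : X ⟶ Spec (CommRingCat.of k)) (S : Subalgebra k E) :
    pullback f (Spec.map (CommRingCat.ofHom (algebraMap k E))) ⟶
      pullback f (Spec.map (CommRingCat.ofHom (algebraMap k S))) :=
  pullback.lift (pullback.fst _ _) (pullback.snd _ _ ≫ Spec.map (CommRingCat.ofHom S.val.toRingHom))
    (by rw [pullback.condition, Category.assoc, ← Spec.map_comp]; rfl)

/-- A clopen subset of the base change of a quasi-compact scheme is defined at a finite stage. -/
theorem exists_saturated {k : Type u} [Field k] (E : Type u) [Field E] [Algebra k E]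
    [Algebra.IsSeparable k E] {X : Scheme.{u}} (f : X ⟶ Spec (CommRingCat.of k)) [CompactSpace X]
    {C : Set ↑(pullback f (Spec.map (CommRingCat.ofHom (algebraMap k E))))} (hC : IsClopen C) :
    ∃ S : Subalgebra k E, S.FG ∧ ∀ z z', toSub E f S z = toSub E f S z' → z ∈ C → z' ∈ C := by
  classical
  let A := CommRingCat.of k
  let B := CommRingCat.of E
  have : IsDirectedOrder (FgSubalg A B) := ⟨fun S T => ⟨⟨S.1 ⊔ T.1, S.2.sup T.2⟩, le_sup_left (a := S.1), le_sup_right (a := S.1)⟩⟩
  have : Nonempty (FgSubalg A B) := ⟨⟨⊥, Subalgebra.fg_bot⟩⟩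
  have : IsFiltered (FgSubalg A B) := isFiltered_of_directed_le_nonempty _
  have : IsCofiltered (FgSubalg A B)ᵒᵖ := inferInstance
  let D := subalgSpec A B
  let cS := subalgCone A B
  let j₀ : (FgSubalg A B)ᵒᵖ := op ⟨⊥, Subalgebra.fg_bot⟩
  let g : D.obj j₀ ⟶ Spec A := Spec.map (CommRingCat.ofHom (algebraMap k (⊥ : Subalgebra k E)))
  have : IsIso g := by
    have hb : Function.Bijective (algebraMap k (⊥ : Subalgebra k E)) :=
      ⟨RingHom.injective _, fun z => by
        obtain ⟨r, hr⟩ := Algebra.mem_bot.mp z.2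
        exact ⟨r, Subtype.ext hr⟩⟩
    have : IsIso (CommRingCat.ofHom (algebraMap k (⊥ : Subalgebra k E))) :=
      (RingEquiv.ofBijective _ hb).toCommRingCatIso.isIso_hom
    exact inferInstanceAs (IsIso (Spec.map _))
  let a : X ⟶ D.obj j₀ := f ≫ inv g
  let sE := Spec.map (CommRingCat.ofHom (algebraMap k E))
  let sK (S : Subalgebra k E) := Spec.map (CommRingCat.ofHom (algebraMap k S))
  have hg (j : Over j₀) : D.map j.hom ≫ g = sK j.left.unop.1 := by
    simp only [D, g, sK, subalgSpec, Functor.comp_map, Functor.op_map, Scheme.Spec_map,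
      Quiver.Hom.unop_op]
    erw [← Spec.map_comp]
    rfl
  have hgE : cS.π.app j₀ ≫ g = sE := by
    simp only [cS, g, sE, subalgCone, Functor.mapCone_π_app]
    erw [← Spec.map_comp]
    rfl
  have hP : IsPullback (pullback.fst f sE) (pullback.snd f sE) a (cS.π.app j₀) :=
    (IsPullback.of_hasPullback f sE).of_iso (Iso.refl _) (Iso.refl _) (Iso.refl _) (asIso g).symm
      (by simp) (by simp) (by simp [a]) (by simp [← hgE])
  let c := bcCone D cS a (pullback.fst f sE) (pullback.snd f sE) hP.w
  let hc : IsLimit c := isLimitBcCone D cS (isLimitSubalgCone A B) a _ _ hP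
  have : CompactSpace ↥((bcDiagram D a).obj (Over.mk (𝟙 j₀))) := inferInstance
  have : CompactSpace c.pt := compactSpace_pt (bcDiagram D a) c hc (Over.mk (𝟙 j₀))
  obtain ⟨j, -, V, V', -, -, hV, -⟩ := exists_preimage_eq_over₂ (bcDiagram D a) c hc (Over.mk (𝟙 j₀))
    ⟨C, hC.isOpen⟩ ⟨Cᶜ, hC.compl.isOpen⟩ hC.isClosed.isCompact hC.compl.isClosed.isCompact
  have hV1 : c.π.app j ⁻¹' V = C := congrArg (fun U : c.pt.Opens => (U : Set c.pt)) hV
  refine ⟨j.left.unop.1, j.left.unop.2, fun z z' hzz hz => ?_⟩
  have hiso : IsPullback (pullback.fst a (D.map j.hom)) (pullback.snd a (D.map j.hom)) f (sK j.left.unop.1) :=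
    (IsPullback.of_hasPullback a (D.map j.hom)).of_iso (Iso.refl _) (Iso.refl _) (Iso.refl _) (asIso g)
      (by simp) (by simp) (by simp [a]) (by simpa using (hg j))
  have e : c.π.app j ≫ hiso.isoPullback.hom = toSub E f j.left.unop.1 := by
    refine pullback.hom_ext ?_ ?_
    · rw [Category.assoc, hiso.isoPullback_hom_fst]
      exact (pullback.lift_fst _ _ _).trans (pullback.lift_fst _ _ _).symm
    · rw [Category.assoc, hiso.isoPullback_hom_snd]
      refine (pullback.lift_snd _ _ _).trans ?_
      rw [toSub, pullback.lift_snd]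
      rfl
  rw [← e, Scheme.Hom.comp_apply, Scheme.Hom.comp_apply] at hzz
  have h := (Scheme.homeoOfIso hiso.isoPullback).injective hzz
  rw [← hV1, Set.mem_preimage] at hz ⊢
  exact h ▸ hz

theorem connectedSpace_bc {k : Type u} [Field k] (E : Type u) [Field E] [Algebra k E]
    [Algebra.IsSeparable k E] {X : Scheme.{u}} (f : X ⟶ Spec (CommRingCat.of k))
    (H : ∀ (K : Type u) [Field K] [Algebra k K] [Module.Finite k K] [Algebra.IsSeparable k K],
        ConnectedSpace ↑(pullback f (Spec.map (CommRingCat.ofHom (algebraMap k K))))) :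
    ConnectedSpace ↑(pullback f (Spec.map (CommRingCat.ofHom (algebraMap k E)))) := by
  have sqE := IsPullback.of_hasPullback f (Spec.map (CommRingCat.ofHom (algebraMap k E)))
  have := H k
  obtain ⟨x⟩ : Nonempty X :=
    ⟨pullback.fst f (Spec.map (CommRingCat.ofHom (algebraMap k k))) (Classical.arbitrary _)⟩
  obtain ⟨z₀, hz₀⟩ := FBase64.surjective_of_isPullback sqE x
  rw [connectedSpace_iff_clopen]
  refine ⟨⟨z₀⟩, fun C hC => ?_⟩
  by_contra hCC
  rw [not_or] at hCC
  obtain ⟨W, hW, hxW, -⟩ := exists_isAffineOpen_mem_and_subset (X := X) (x := x) (U := ⊤) trivial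
  haveI : IsAffine W := hW
  let m : pullback (W.ι ≫ f) (Spec.map (CommRingCat.ofHom (algebraMap k E))) ⟶
      pullback f (Spec.map (CommRingCat.ofHom (algebraMap k E))) :=
    pullback.map _ _ _ _ W.ι (𝟙 _) (𝟙 _) (by simp) (by simp)
  obtain ⟨S, hS, hsat⟩ := exists_saturated E (W.ι ≫ f) (C := m ⁻¹' C) (hC.preimage m.continuous)
  let : Field S := (Subalgebra.isField_of_algebraic S).toField
  have : Algebra.FiniteType k S := ⟨(Subalgebra.fg_top _).mpr hS⟩
  have : Algebra.IsSeparable k S := Algebra.IsSeparable.of_algHom k E S.val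
  have : Module.Finite k S := Algebra.IsIntegral.finite
  have := H S
  letI : Algebra S E := S.val.toRingHom.toAlgebra
  haveI : IsScalarTower k S E := IsScalarTower.of_algebraMap_eq fun _ => rfl
  haveI : Algebra.IsAlgebraic S E := Algebra.IsAlgebraic.tower_top (K := k) (L := S)
  let p := toSub E f S
  have hp : IsPullback p (pullback.snd f (Spec.map (CommRingCat.ofHom (algebraMap k E))))
      (pullback.snd f (Spec.map (CommRingCat.ofHom (algebraMap k S))))
      (Spec.map (CommRingCat.ofHom (algebraMap S E))) := by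
    refine IsPullback.of_right ?_ (pullback.lift_snd _ _ _)
      (IsPullback.of_hasPullback f (Spec.map (CommRingCat.ofHom (algebraMap k S))))
    rw [show p ≫ pullback.fst f _ = pullback.fst f (Spec.map (CommRingCat.ofHom (algebraMap k E))) from
      pullback.lift_fst _ _ _, ← Spec.map_comp]
    exact sqE
  have hall : ∀ A : Set ↑(pullback f (Spec.map (CommRingCat.ofHom (algebraMap k E)))), IsClopen A →
      A ≠ ∅ → p '' A = Set.univ := fun A hA hne => by
    refine (isClopen_iff.mp ⟨FBase64.isClosedMap_of_isPullback hp _ hA.1,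
      FBase64.isOpenMap_of_isPullback hp _ hA.2⟩).resolve_left ?_
    rwa [Set.image_eq_empty]
  have hy := Set.mem_univ (p z₀)
  obtain ⟨z, hzC, hz⟩ := (hall C hC hCC.1).ge hy
  obtain ⟨z', hz'C, hz'⟩ := (hall Cᶜ hC.compl (by simpa using hCC.2)).ge hy
  have hsq : IsPullback (pullback.fst (W.ι ≫ f) (Spec.map (CommRingCat.ofHom (algebraMap k E)))) m
      W.ι (pullback.fst f (Spec.map (CommRingCat.ofHom (algebraMap k E)))) := by
    refine IsPullback.of_bot ?_ (pullback.lift_fst _ _ _).symm sqE
    rw [show m ≫ pullback.snd f _ = pullback.snd (W.ι ≫ f) _ from (pullback.lift_snd _ _ _).trans (Category.comp_id _)]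
    exact IsPullback.of_hasPullback _ _
  have hlift : ∀ w : ↑(pullback f (Spec.map (CommRingCat.ofHom (algebraMap k E)))), p w = p z₀ →
      ∃ v, m v = w := fun w hw => by
    obtain ⟨v, -, hv⟩ := Scheme.exists_preimage_of_isPullback hsq (⟨x, hxW⟩ : W) w (by
      show x = pullback.fst f _ w
      rw [← hz₀, ← show p ≫ pullback.fst f _ = pullback.fst f (Spec.map (CommRingCat.ofHom (algebraMap k E))) from
        pullback.lift_fst _ _ _, Scheme.Hom.comp_apply, Scheme.Hom.comp_apply, hw])
    exact ⟨v, hv⟩
  obtain ⟨v, rfl⟩ := hlift z hz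
  obtain ⟨v', rfl⟩ := hlift z' hz'
  let mS : pullback (W.ι ≫ f) (Spec.map (CommRingCat.ofHom (algebraMap k S))) ⟶
      pullback f (Spec.map (CommRingCat.ofHom (algebraMap k S))) :=
    pullback.map _ _ _ _ W.ι (𝟙 _) (𝟙 _) (by simp) (by simp)
  have hcomm : toSub E (W.ι ≫ f) S ≫ mS = m ≫ p := by
    refine pullback.hom_ext ?_ ?_ <;> simp [toSub, mS, m, p]
  refine hz'C (hsat v v' (mS.isOpenEmbedding.injective ?_) hzC)
  rw [← Scheme.Hom.comp_apply, ← Scheme.Hom.comp_apply, hcomm, Scheme.Hom.comp_apply,
    Scheme.Hom.comp_apply, hz, hz']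

theorem geometricallyConnected_of_forall_finite_separable {k : Type u} [Field k]
    {X : Scheme.{u}} (f : X ⟶ Spec (CommRingCat.of k))
    (H : ∀ (K : Type u) [Field K] [Algebra k K] [Module.Finite k K] [Algebra.IsSeparable k K],
        ConnectedSpace ↑(pullback f (Spec.map (CommRingCat.ofHom (algebraMap k K))))) :
    GeometricallyConnected f := by
  have := connectedSpace_bc (SeparableClosure k) f H
  exact FBase64.geometricallyConnected_of_sepClosed f (algebraMap k (SeparableClosure k))

end Groth.Agent.GeoConn24
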